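import Mathlib
import Groth.Agent.Lib.Helper19.OpenSub

/-!
# Substacks cut out chart-wise by subschemes (helper19)

If, for every chart `x : (Sch/U) ⟶ 𝒳`, the objects of the chart lying in `Q` are exactly those factoring
through a fixed monomorphism `j : Z ⟶ U` with property `P`, then the inclusion of the substack cut out by `Q`
is representable with `P`.
-/

set_option autoImplicit false
set_option backward.isDefEq.respectTransparency false

universe w₃ v₃ w' v' w v u

open CategoryTheory CategoryTheory.Limits Functor AlgebraicGeometry Opposite TopologicalSpace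

namespace Groth.Agent.Helper19.ClSub

open FibCat AlgSt Stk Groth.Agent.Helper19.FibLib Groth.Agent.Helper19.StLib Groth.Agent.Helper19.StPts
  Groth.Agent.Helper19.EssImg Groth.Agent.Helper19.ImmLib Groth.Agent.Helper19.PshSt
  Groth.Agent.Helper19.OpenSub

variable {S : Scheme.{u}}

section equiv

variable {𝒳 : BasedCategory.{v, w} (Over S)}

variable {U Z : Over S} (x : overCat U ⥤ᵇ 𝒳) (Q : 𝒳.obj → Prop) (j : Z ⟶ U)

/-- the comparison functor from the slice of the subscheme to the base change of the substack. -/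
noncomputable def chartE (hmem : ∀ a : (overCat Z).obj, Q (x.obj ((overMap j).obj a))) :
    overCat Z ⥤ᵇ fp x (subIncl 𝒳 Q) :=
  fpLift (F := x) (G := subIncl 𝒳 Q) (overMap j)
    (liftSub (BasedFunctor.comp (overMap j) x) Q hmem) (Iso.refl _)

theorem chartE_comp_fpFst
    (hmem : ∀ a : (overCat Z).obj, Q (x.obj ((overMap j).obj a))) :
    BasedFunctor.comp (chartE x Q j hmem) (fpFst x (subIncl 𝒳 Q)) = overMap j := rfl

theorem chartE_comp_fpSnd
    (hmem : ∀ a : (overCat Z).obj, Q (x.obj ((overMap j).obj a))) :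
    BasedFunctor.comp (chartE x Q j hmem) (fpSnd x (subIncl 𝒳 Q)) =
      liftSub (BasedFunctor.comp (overMap j) x) Q hmem := rfl

theorem faithful_chartE
    (hmem : ∀ a : (overCat Z).obj, Q (x.obj ((overMap j).obj a))) :
    (chartE x Q j hmem).toFunctor.Faithful := by
  refine ⟨fun {a b} m m' h => ?_⟩
  have h1 : (overMap j).map m = (overMap j).map m' := congrArg (fun k => k.hom.fst) h
  have h2 : m.left = m'.left := congrArg (fun k => k.left) h1
  exact Over.OverMorphism.ext h2

theorem full_chartE [Mono j]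
    (hmem : ∀ a : (overCat Z).obj, Q (x.obj ((overMap j).obj a))) :
    (chartE x Q j hmem).toFunctor.Full := by
  refine ⟨fun {a b} k => ?_⟩
  have hw : k.hom.fst.left ≫ (b.hom ≫ j) = a.hom ≫ j := Over.w k.hom.fst
  have hw' : k.hom.fst.left ≫ b.hom = a.hom := by
    rw [← cancel_mono j, Category.assoc]
    exact hw
  refine ⟨Over.homMk k.hom.fst.left hw', ?_⟩
  apply fp_hom_ext
  · apply Over.OverMorphism.ext
    rfl
  · have := fp_w k
    apply ObjectProperty.hom_ext
    have h3 : x.map k.hom.fst ≫ 𝟙 _ = 𝟙 _ ≫ k.hom.snd.hom := this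
    rw [Category.comp_id, Category.id_comp] at h3
    rw [← h3]
    show x.map ((overMap j).map (Over.homMk k.hom.fst.left hw')) = x.map k.hom.fst
    congr 1

theorem isEquivOver_chartE [Mono j] (hcl : ObjectProperty.IsClosedUnderIsomorphisms Q)
    (hmem : ∀ a : (overCat Z).obj, Q (x.obj ((overMap j).obj a)))
    (hfac : ∀ a : (overCat U).obj, Q (x.obj a) → ∃ l : a.left ⟶ Z, l ≫ j = a.hom) :
    IsEquivOver (chartE x Q j hmem) := by
  have := faithful_chartE x Q j hmem
  have := full_chartE x Q j hmem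
  refine isEquivOver_of_fullyFaithful (chartE x Q j hmem) (fun w => ?_)
  let a : Over U := w.obj.fst
  have h1 : Q (x.obj a) := hcl.of_iso w.obj.iso.symm w.obj.snd.property
  obtain ⟨l, hl⟩ := hfac a h1
  let a₀ : Over Z := Over.mk l
  let e₁ : (overMap j).obj a₀ ≅ a := Over.isoMk (Iso.refl a.left) (by
    simp [overMap, a₀, hl])
  let e₂ : ((chartE x Q j hmem).obj a₀).obj.snd ≅ w.obj.snd :=
    ObjectProperty.isoMk _ (x.toFunctor.mapIso e₁ ≪≫ w.obj.iso)
  let e : (chartE x Q j hmem).obj a₀ ≅ w :=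
    fpIsoMk (F := x) (G := subIncl 𝒳 Q) (x := (chartE x Q j hmem).obj a₀) (y := w) e₁ e₂ (by
      show x.map e₁.hom ≫ w.obj.iso.hom = 𝟙 _ ≫ (x.map e₁.hom ≫ w.obj.iso.hom)
      rw [Category.id_comp])
  refine ⟨a₀, e, ?_⟩
  apply IsHomLift.of_fac _ _ _ rfl rfl
  have : (fp x (subIncl 𝒳 Q)).p.map e.hom = 𝟙 a.left := rfl
  rw [this]
  simp
  rfl

end equiv

section algst

variable {𝒳 : AlgSt.Cat S}

/-- **chart-wise representability.** -/
theorem repByAlgSpWith_subIncl (P : MorphismProperty Scheme.{u}) [P.IsStableUnderBaseChange]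
    (Q : 𝒳.obj → Prop) (hcl : ObjectProperty.IsClosedUnderIsomorphisms Q)
    (h : ∀ (U : Over S) (x : overCat U ⥤ᵇ 𝒳), ∃ (Z : Over S) (j : Z ⟶ U), Mono j ∧ P j.left ∧
      (∀ a : (overCat Z).obj, Q (x.obj ((overMap j).obj a))) ∧
      (∀ a : (overCat U).obj, Q (x.obj a) → ∃ l : a.left ⟶ Z, l ≫ j = a.hom)) :
    RepByAlgSpWith (AlgSp.RepWith P) (subIncl 𝒳 Q) := by
  intro U x
  obtain ⟨Z, j, hj, hP, hmem, hfac⟩ := h U x
  exact RepOver.of_equiv (chartE x Q j hmem) (isEquivOver_chartE x Q j hcl hmem hfac)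
    (eqToIso (chartE_comp_fpFst x Q j hmem)) (repOver_overMap P j hP)

end algst

end Groth.Agent.Helper19.ClSub
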