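import Mathlib
import Groth.Agent.Lib.Helper19.ClSub.Rep
import Groth.Agent.Lib.Helper15.AlgSpCoprod
import Groth.Agent.Lib.Helper15.AlgSpBasic

/-!
# The substack locally pulled back from a subscheme of a chart (helper19)
-/

set_option autoImplicit false
set_option backward.isDefEq.respectTransparency false

universe u

open CategoryTheory CategoryTheory.Limits Functor AlgebraicGeometry Opposite TopologicalSpace

namespace Groth.Agent.Helper19.ClSub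

open FibCat AlgSt Stk Groth.Agent.Helper19.FibLib

variable {S : Scheme.{u}}

/-- factoring through a monomorphism of schemes over `S` is fppf local. -/
theorem factors_of_locally {Z U T : Over S} (j : Z ⟶ U) [Mono j] (c : T ⟶ U) (R : Sieve T)
    (hR : R ∈ (AlgSp.J S) T)
    (h : ∀ ⦃V : Over S⦄ (k : V ⟶ T), R k → ∃ d : V ⟶ Z, d ≫ j = k ≫ c) :
    ∃ d : T ⟶ Z, d ≫ j = c := by
  haveI : Mono ((AlgSp.yon S).map j) := inferInstance
  obtain ⟨x, hx⟩ := Groth.Agent.Helper15.factors_of_locally_factors ((AlgSp.yon S).map j)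
    ((AlgSp.yon S).map c) R hR (fun T' k hk => by
      obtain ⟨d, hd⟩ := h k hk
      exact ⟨(AlgSp.yon S).map d, by rw [← Functor.map_comp, hd, Functor.map_comp]⟩)
  obtain ⟨d, rfl⟩ := (AlgSp.yon S).map_surjective x
  exact ⟨d, (AlgSp.yon S).map_injective (by rw [Functor.map_comp]; exact hx)⟩

/-- morphisms to `T` lift, fppf locally, along an fppf covering `s`. -/
theorem exists_sieve_lift_along {W U T : Over S} (s : W ⟶ U) (hflat : Flat s.left)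
    (hlfp : LocallyOfFinitePresentation s.left) (hsurj : Surjective s.left) (a : T ⟶ U) :
    ∃ R ∈ (AlgSp.J S) T, ∀ ⦃V : Over S⦄ (k : V ⟶ T), R k → ∃ l : V ⟶ W, l ≫ s = k ≫ a := by
  refine ⟨(Sieve.ofArrows (fun _ : PUnit.{1} => W) (fun _ => s)).pullback a,
    (AlgSp.J S).pullback_stable a (Groth.Agent.Helper15.singleton_mem_J s hflat hlfp hsurj), ?_⟩
  intro V k hk
  obtain ⟨i, l, hl⟩ := (Sieve.mem_ofArrows_iff _ _ _).1 hk
  exact ⟨l, hl.symm⟩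

variable {𝒳 : AlgSt.Cat S} {U₀ Z₀ : Over S}

/-- the objects which are, fppf locally, pulled back from the subscheme `Z₀` of the chart `x₀`. -/
def LocIn (x₀ : overCat U₀ ⥤ᵇ 𝒳) (i₀ : Z₀ ⟶ U₀) : 𝒳.obj → Prop := fun y =>
  ∃ R : Sieve (𝒳.p.obj y), R ∈ (AlgSp.J S) (𝒳.p.obj y) ∧
    ∀ ⦃V : Over S⦄ (k : V ⟶ 𝒳.p.obj y), R k →
      ∃ (d : V ⟶ Z₀) (φ : x₀.obj (Over.mk (d ≫ i₀)) ⟶ y), 𝒳.p.IsHomLift k φ

variable (x₀ : overCat U₀ ⥤ᵇ 𝒳) (i₀ : Z₀ ⟶ U₀)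

theorem locIn_intro (T : Over S) (y : 𝒳.obj) (hy : 𝒳.p.obj y = T) (R : Sieve T)
    (hR : R ∈ (AlgSp.J S) T)
    (h : ∀ ⦃V : Over S⦄ (k : V ⟶ T), R k →
      ∃ (d : V ⟶ Z₀) (φ : x₀.obj (Over.mk (d ≫ i₀)) ⟶ y), 𝒳.p.IsHomLift k φ) :
    LocIn x₀ i₀ y := by
  subst hy
  exact ⟨R, hR, h⟩

theorem locIn_elim (T : Over S) (y : 𝒳.obj) (hy : 𝒳.p.obj y = T) (h : LocIn x₀ i₀ y) :
    ∃ R ∈ (AlgSp.J S) T, ∀ ⦃V : Over S⦄ (k : V ⟶ T), R k →
      ∃ (d : V ⟶ Z₀) (φ : x₀.obj (Over.mk (d ≫ i₀)) ⟶ y), 𝒳.p.IsHomLift k φ := by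
  subst hy
  obtain ⟨R, hR, h⟩ := h
  exact ⟨R, hR, h⟩

theorem isClosedUnderIsomorphisms_locIn :
    ObjectProperty.IsClosedUnderIsomorphisms (LocIn x₀ i₀) := by
  refine ⟨fun {y y'} e hy => ?_⟩
  obtain ⟨R, hR, h⟩ := hy
  refine ⟨R.pullback (𝒳.p.map e.inv), (AlgSp.J S).pullback_stable _ hR, ?_⟩
  intro V k hk
  obtain ⟨d, φ, hφ⟩ := h _ hk
  refine ⟨d, φ ≫ e.hom, ?_⟩
  have h1 : 𝒳.p.IsHomLift ((k ≫ 𝒳.p.map e.inv) ≫ 𝒳.p.map e.hom) (φ ≫ e.hom) := inferInstance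
  have h2 : (k ≫ 𝒳.p.map e.inv) ≫ 𝒳.p.map e.hom = k := by
    rw [Category.assoc, ← Functor.map_comp, e.inv_hom_id, CategoryTheory.Functor.map_id, Category.comp_id]
  rwa [h2] at h1

/-- objects pulled back from `Z₀` lie in the substack. -/
theorem locIn_of_factors (b : (overCat U₀).obj) (d : b.left ⟶ Z₀) (hd : d ≫ i₀ = b.hom) :
    LocIn x₀ i₀ (x₀.obj b) := by
  refine locIn_intro x₀ i₀ b.left _ (x₀.w_obj b) ⊤ ((AlgSp.J S).top_mem _) ?_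
  intro V k _
  refine ⟨k ≫ d, x₀.map (Over.homMk k (by simp [hd]) : Over.mk ((k ≫ d) ≫ i₀) ⟶ b), ?_⟩
  have h0 : (overCat U₀).p.IsHomLift k
      (Over.homMk k (by simp [hd]) : Over.mk ((k ≫ d) ≫ i₀) ⟶ b) :=
    IsHomLift.of_fac _ _ _ rfl rfl (by simp; rfl)
  infer_instance

end Groth.Agent.Helper19.ClSub
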