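import Mathlib
import Groth.Agent.Lib.Helper19.ClSub.Def
import Groth.Agent.Lib.Helper19.ClosedSub
import Groth.Agent.Lib.Helper16.AlgSp.RedSp
import Groth.Agent.Lib.Helper18.RedLift

/-!
# Invariance of the reduced closed subscheme of an atlas (helper19)
-/

set_option autoImplicit false
set_option backward.isDefEq.respectTransparency false

universe u

open CategoryTheory CategoryTheory.Limits Functor AlgebraicGeometry Opposite TopologicalSpace

namespace Groth.Agent.Helper19.ClSub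

open FibCat AlgSt Stk Groth.Agent.Helper19.FibLib Groth.Agent.Helper19.StLib Groth.Agent.Helper19.StPts
  Groth.Agent.Helper19.EssImg Groth.Agent.Helper19.ImmLib Groth.Agent.Helper19.PshSt
  Groth.Agent.Helper19.OpenSub Groth.Agent.Helper19.LocQGen
  Groth.Agent.Helper19.ChartOver Groth.Agent.Helper19.ProdAlg

variable {S : Scheme.{u}} {𝒳 : AlgSt.Cat S} {U₀ Z₀ : Over S}

/-- a lift in the fibre product lifts its first component. -/
theorem isHomLift_fst {𝒴 𝒵 : AlgSt.Cat S} (F : 𝒴 ⥤ᵇ 𝒳) (G : 𝒵 ⥤ᵇ 𝒳) {o o' : (fp F G).obj}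
    (μ : o ⟶ o') {V T : Over S} (f : V ⟶ T) (h : (fp F G).p.IsHomLift f μ) :
    𝒴.p.IsHomLift f μ.hom.fst := by
  have hd := IsHomLift.domain_eq (fp F G).p f μ
  have hc := IsHomLift.codomain_eq (fp F G).p f μ
  have hf := IsHomLift.fac (fp F G).p f μ
  exact IsHomLift.of_fac 𝒴.p f μ.hom.fst hd hc hf

/-- **invariance.**  If two objects of the atlas are related by a morphism of the stack and the target factors
through the reduced closed subscheme `Z₀` whose points are the preimage of `T`, then so does the source. -/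
theorem factors_of_hom (h𝒳 : IsAlgStack Scheme.fppfPrecoverage 𝒳) (x₀ : overCat U₀ ⥤ᵇ 𝒳)
    (hsm : RepByAlgSpWith (AlgSp.LocP @Smooth) x₀) (T : Set (Points 𝒳)) (i₀ : Z₀ ⟶ U₀)
    (hi₀ : IsClosedImmersion i₀.left) (hred : IsReduced Z₀.left)
    (hrange : Set.range i₀.left = Points.ofChart x₀ ⁻¹' T)
    (b b' : (overCat U₀).obj) (g : b.left ⟶ b'.left) (φ : x₀.obj b ⟶ x₀.obj b')
    (hφ : 𝒳.p.IsHomLift g φ) (hb' : ∃ d' : b'.left ⟶ Z₀, d' ≫ i₀ = b'.hom) :
    ∃ d : b.left ⟶ Z₀, d ≫ i₀ = b.hom := by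
  obtain ⟨d', hd'⟩ := hb'
  have hfU₀ := isFibGrpd_overCat U₀
  have hLQ : LocQ (AlgSp.LocP @Smooth) x₀ := locQ_of_repByAlgSpWith' smStable_smooth h𝒳 x₀ hsm
  obtain ⟨R', u, pr₁, θ₁, hu, hus, hpr₁⟩ := exists_good_chart smStable_smooth x₀ hLQ x₀
  have hpr₁sm : Smooth pr₁.left := AlgSp.locP_yon_map hpr₁
  obtain ⟨pr₂, ⟨θ₂⟩⟩ := exists_overMap_iso (BasedFunctor.comp u (fpSnd x₀ x₀))
  have h𝒫 : IsAlgStack Scheme.fppfPrecoverage (fp x₀ x₀) :=
    isAlgStack_fp h𝒳.isStack h𝒳.diag (isAlgStack_overCat U₀) (isAlgStack_overCat U₀) x₀ x₀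
  -- the 2-isomorphism of the two composites
  let η : BasedFunctor.comp (overMap pr₁) x₀ ≅ BasedFunctor.comp (overMap pr₂) x₀ :=
    (whiskerRightIso θ₁ x₀).symm ≪≫ whiskerLeftIso u (fpIso x₀ x₀) ≪≫ whiskerRightIso θ₂ x₀
  -- the object of the fibre product
  let m : (Over.mk (g ≫ b'.hom) : Over U₀) ⟶ b' := Over.homMk g rfl
  have hm0 : (overCat U₀).p.IsHomLift g m := IsHomLift.of_fac _ _ _ rfl rfl (by simp; rfl)
  have hm : 𝒳.p.IsHomLift g (x₀.map m) := inferInstance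
  obtain ⟨χ, ⟨hχ, hχc⟩, -⟩ := existsUnique_fac h𝒳.isStack.1 g φ (𝟙 b.left) g (by simp) (x₀.map m)
  haveI : IsIso χ := isIso_of_isHomLift h𝒳.isStack.1 (𝟙 b.left) χ
  let o : (fp x₀ x₀).obj := ⟨⟨(Over.mk (g ≫ b'.hom) : Over U₀), b, asIso χ⟩, hχ⟩
  obtain ⟨R, hR, hlift⟩ := Groth.Agent.Helper19.ClosedSub.exists_sieve_atlas h𝒫 u hu hus o
  haveI : Mono i₀ := by
    haveI : Mono i₀.left := by haveI := hi₀; infer_instance
    exact Over.mono_of_mono_left i₀
  refine factors_of_locally i₀ b.hom R hR ?_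
  intro V f hf
  obtain ⟨a', μ, hμ⟩ := hlift f hf
  obtain ⟨al, ⟨⟩, ah⟩ := a'
  -- the two components of the lift
  have hμ1 : (overCat U₀).p.IsHomLift f μ.hom.fst := isHomLift_fst x₀ x₀ μ f hμ
  have hμ2 : (overCat U₀).p.IsHomLift f μ.hom.snd := by
    have h1 : (overCat U₀).p.IsHomLift ((fp x₀ x₀).p.map μ) μ.hom.snd := inferInstance
    have h2 : (fp x₀ x₀).p.IsHomLift f μ := hμ
    have hd := IsHomLift.domain_eq (fp x₀ x₀).p f μ
    have hc := IsHomLift.codomain_eq (fp x₀ x₀).p f μ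
    have hfac := IsHomLift.fac (fp x₀ x₀).p f μ
    have hd' := IsHomLift.domain_eq (overCat U₀).p ((fp x₀ x₀).p.map μ) μ.hom.snd
    have hc' := IsHomLift.codomain_eq (overCat U₀).p ((fp x₀ x₀).p.map μ) μ.hom.snd
    have hfac' := IsHomLift.fac (overCat U₀).p ((fp x₀ x₀).p.map μ) μ.hom.snd
    refine IsHomLift.of_fac (overCat U₀).p f μ.hom.snd (hd'.trans hd) (hc'.trans hc) ?_
    rw [hfac, hfac']
    simp
  let m₁ : (overMap pr₁).obj (Over.mk ah) ⟶ (Over.mk (g ≫ b'.hom) : Over U₀) :=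
    (appIso θ₁ (Over.mk ah)).inv ≫ μ.hom.fst
  let m₂ : (overMap pr₂).obj (Over.mk ah) ⟶ b :=
    (appIso θ₂ (Over.mk ah)).inv ≫ μ.hom.snd
  have hθ₁ : (overCat U₀).p.IsHomLift (𝟙 al) (appIso θ₁ (Over.mk ah)).inv :=
    θ₁.inv.isHomLift' (Over.mk ah)
  have hθ₂ : (overCat U₀).p.IsHomLift (𝟙 al) (appIso θ₂ (Over.mk ah)).inv :=
    θ₂.inv.isHomLift' (Over.mk ah)
  have hV : al = V :=
    (IsHomLift.codomain_eq (overCat U₀).p (𝟙 al) (appIso θ₁ (Over.mk ah)).inv).symm.trans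
      (IsHomLift.domain_eq (overCat U₀).p f μ.hom.fst)
  subst hV
  have hm₁ : (overCat U₀).p.IsHomLift (𝟙 al ≫ f) m₁ := inferInstance
  have hm₂ : (overCat U₀).p.IsHomLift (𝟙 al ≫ f) m₂ := inferInstance
  have e₁ : m₁.left = f := by
    have := IsHomLift.fac' (overCat U₀).p (𝟙 al ≫ f) m₁
    simp only [eqToHom_refl, Category.id_comp, Category.comp_id] at this
    exact this
  have e₂ : m₂.left = f := by
    have := IsHomLift.fac' (overCat U₀).p (𝟙 al ≫ f) m₂
    simp only [eqToHom_refl, Category.id_comp, Category.comp_id] at this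
    exact this
  have w₁ : f ≫ g ≫ b'.hom = ah ≫ pr₁ := by
    have := Over.w m₁
    rw [e₁] at this
    exact this
  have w₂ : f ≫ b.hom = ah ≫ pr₂ := by
    have := Over.w m₂
    rw [e₂] at this
    exact this
  -- the reduced scheme `A = pr₁⁻¹(Z₀)`
  haveI := hi₀
  haveI := hred
  haveI := hpr₁sm
  let ιA : pullback pr₁.left i₀.left ⟶ R'.left := pullback.fst _ _
  let qA : pullback pr₁.left i₀.left ⟶ Z₀.left := pullback.snd _ _
  haveI : Smooth qA := inferInstanceAs (Smooth (pullback.snd pr₁.left i₀.left))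
  haveI : IsReduced (pullback pr₁.left i₀.left) := Groth.Agent.Helper16.AS.isReduced_of_smooth qA
  have hrA : Set.range (ιA ≫ pr₂.left) ⊆ Set.range i₀.left := by
    rintro _ ⟨α, rfl⟩
    rw [hrange]
    show Points.ofChart x₀ ((ιA ≫ pr₂.left) α) ∈ T
    have h1 : Points.ofChart x₀ (pr₂.left (ιA α)) = Points.ofChart x₀ (pr₁.left (ιA α)) := by
      rw [← ofChart_overMap pr₂ x₀, ← ofChart_overMap pr₁ x₀, ofChart_congr η]
    have h2 : pr₁.left (ιA α) = i₀.left (qA α) := by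
      have := congrArg (fun k => k α) (pullback.condition (f := pr₁.left) (g := i₀.left))
      simpa using this
    have h3 : i₀.left (qA α) ∈ Points.ofChart x₀ ⁻¹' T := by
      rw [← hrange]; exact ⟨_, rfl⟩
    rw [Scheme.Hom.comp_apply, h1, h2]
    exact h3
  obtain ⟨h', hh'⟩ :=
    Groth.Agent.Helper18.RedLift.exists_lift_of_isReduced i₀.left (ιA ≫ pr₂.left) hrA
  have w₁' : ah.left ≫ pr₁.left = (f ≫ g ≫ d').left ≫ i₀.left := by
    have := congrArg (fun k => k.left) w₁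
    simp only [Over.comp_left] at this
    rw [← this, ← hd']
    simp
  let lA : al.left ⟶ pullback pr₁.left i₀.left := pullback.lift ah.left (f ≫ g ≫ d').left w₁'
  have hlA : lA ≫ ιA = ah.left := pullback.lift_fst _ _ _
  have key : (lA ≫ h') ≫ i₀.left = (f ≫ b.hom).left := by
    rw [Category.assoc, hh', ← Category.assoc, hlA, w₂]
    rfl
  refine ⟨Over.homMk (lA ≫ h') ?_, ?_⟩
  · rw [← Over.w i₀, ← Category.assoc, key]
    exact Over.w (f ≫ b.hom)
  · apply Over.OverMorphism.ext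
    exact key

end Groth.Agent.Helper19.ClSub
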