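import Mathlib
import Groth.Agent.Lib.Helper19.ClSub.Inv
import Groth.Agent.Lib.Helper15.AlgSpCD2

/-!
# Descent of the closed subscheme to every chart (helper19)
-/

set_option autoImplicit false
set_option backward.isDefEq.respectTransparency false

universe u

open CategoryTheory CategoryTheory.Limits Functor AlgebraicGeometry Opposite TopologicalSpace

namespace Groth.Agent.Helper19.ClSub

open FibCat AlgSt Stk Groth.Agent.Helper19.FibLib Groth.Agent.Helper19.StLib Groth.Agent.Helper19.StPts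
  Groth.Agent.Helper19.EssImg Groth.Agent.Helper19.ImmLib Groth.Agent.Helper19.PshSt
  Groth.Agent.Helper19.OpenSub Groth.Agent.Helper19.LocQGen
  Groth.Agent.Helper19.ChartOver Groth.Agent.Helper19.ProdAlg

variable {S : Scheme.{u}} {𝒳 : AlgSt.Cat S} {U₀ Z₀ : Over S}

/-- **Every chart has a closed subscheme representing the substack.** -/
theorem exists_closed_chart (h𝒳 : IsAlgStack Scheme.fppfPrecoverage 𝒳) (x₀ : overCat U₀ ⥤ᵇ 𝒳)
    (hsm : RepByAlgSpWith (AlgSp.LocP @Smooth) x₀) (hsurj : RepByAlgSpWith AlgSp.IsSurjectiveMor x₀)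
    (T : Set (Points 𝒳)) (i₀ : Z₀ ⟶ U₀)
    (hi₀ : IsClosedImmersion i₀.left) (hred : IsReduced Z₀.left)
    (hrange : Set.range i₀.left = Points.ofChart x₀ ⁻¹' T)
    (U : Over S) (x : overCat U ⥤ᵇ 𝒳) :
    ∃ (Z : Over S) (j : Z ⟶ U), Mono j ∧ IsClosedImmersion j.left ∧
      (∀ a : (overCat Z).obj, LocIn x₀ i₀ (x.obj ((overMap j).obj a))) ∧
      (∀ a : (overCat U).obj, LocIn x₀ i₀ (x.obj a) → ∃ l : a.left ⟶ Z, l ≫ j = a.hom) := by
  obtain ⟨W, s, t, hssm, hssurj, -, ⟨θ⟩⟩ := exists_smooth_refinement h𝒳 x x₀ hsm hsurj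
  haveI := hssm
  have hsflat : Flat s.left := inferInstance
  have hslfp : LocallyOfFinitePresentation s.left := inferInstance
  have hsS : Surjective s.left := ⟨hssurj⟩
  haveI : Mono i₀ := by
    haveI : Mono i₀.left := by haveI := hi₀; infer_instance
    exact Over.mono_of_mono_left i₀
  -- the closed subscheme of `W`
  let iW : pullback t i₀ ⟶ W := pullback.fst t i₀
  let t' : pullback t i₀ ⟶ Z₀ := pullback.snd t i₀
  have hcond : iW ≫ t = t' ≫ i₀ := pullback.condition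
  have hiW : IsClosedImmersion iW.left :=
    MorphismProperty.of_isPullback (P := @IsClosedImmersion)
      ((IsPullback.of_hasPullback t i₀).map (Over.forget S)).flip hi₀
  haveI : Mono iW := inferInstanceAs (Mono (pullback.fst t i₀))
  -- lifting to the closed subscheme
  have hliftW : ∀ {V : Over S} (l : V ⟶ W) (d : V ⟶ Z₀), d ≫ i₀ = l ≫ t →
      ∃ l' : V ⟶ pullback t i₀, l' ≫ iW = l := fun l d hd =>
    ⟨pullback.lift l d hd.symm, pullback.lift_fst _ _ _⟩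
  -- the comparison isomorphisms
  have hθh : ∀ {V : Over S} (l : V ⟶ W),
      𝒳.p.IsHomLift (𝟙 V) (appIso θ (Over.mk l)).hom := fun l => θ.hom.isHomLift' (Over.mk l)
  have hθi : ∀ {V : Over S} (l : V ⟶ W),
      𝒳.p.IsHomLift (𝟙 V) (appIso θ (Over.mk l)).inv := fun l => θ.inv.isHomLift' (Over.mk l)
  -- the key factorisation
  have hK : ∀ {V : Over S} (l : V ⟶ W) (b' : (overCat U₀).obj) (g : V ⟶ b'.left)
      (φ : x₀.obj (Over.mk (l ≫ t) : Over U₀) ⟶ x₀.obj b') (_ : 𝒳.p.IsHomLift g φ),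
      (∃ d' : b'.left ⟶ Z₀, d' ≫ i₀ = b'.hom) → ∃ l' : V ⟶ pullback t i₀, l' ≫ iW = l := by
    intro V l b' g φ hφ hb'
    obtain ⟨d, hd⟩ := factors_of_hom h𝒳 x₀ hsm T i₀ hi₀ hred hrange (Over.mk (l ≫ t) : Over U₀) b' g φ
      hφ hb'
    exact hliftW l d hd
  -- invariance
  have hinv : ∀ (T' : Over S) (a b : T' ⟶ W),
      (AlgSp.yon S).map a ≫ (AlgSp.yon S).map s = (AlgSp.yon S).map b ≫ (AlgSp.yon S).map s →
      (∃ a' : T' ⟶ pullback t i₀, a' ≫ iW = a) → ∃ b' : T' ⟶ pullback t i₀, b' ≫ iW = b := by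
    rintro T' a b hab ⟨a', rfl⟩
    have hab' : (a' ≫ iW) ≫ s = b ≫ s := (AlgSp.yon S).map_injective (by
      rw [Functor.map_comp, Functor.map_comp]; exact hab)
    let m : (Over.mk (b ≫ s) : Over U) ⟶ Over.mk ((a' ≫ iW) ≫ s) := Over.homMk (𝟙 T') (by
      exact (Category.id_comp _).trans hab')
    have hm0 : (overCat U).p.IsHomLift (𝟙 T') m := IsHomLift.of_fac _ _ _ rfl rfl (by simp; rfl)
    have hm : 𝒳.p.IsHomLift (𝟙 T') (x.map m) := inferInstance
    have h1 := hθi b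
    have h2 := hθh (a' ≫ iW)
    let φ : x₀.obj (Over.mk (b ≫ t) : Over U₀) ⟶ x₀.obj (Over.mk ((a' ≫ iW) ≫ t) : Over U₀) :=
      (appIso θ (Over.mk b)).inv ≫ x.map m ≫ (appIso θ (Over.mk (a' ≫ iW))).hom
    have hφ : 𝒳.p.IsHomLift (𝟙 T') φ := by
      have h3 : 𝒳.p.IsHomLift (𝟙 T' ≫ 𝟙 T' ≫ 𝟙 T') φ := inferInstance
      simpa using h3
    refine hK b (Over.mk ((a' ≫ iW) ≫ t) : Over U₀) (𝟙 T') φ hφ ⟨a' ≫ t', ?_⟩
    simp only [Over.mk_hom, Category.assoc]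
    rw [hcond]
  -- the image sheaf
  have hp₁ : AlgSp.RepWith @Flat ((AlgSp.yon S).map s) := (AlgSp.repWith_yon_map_iff _ s).2 hsflat
  have hp₂ : AlgSp.RepWith @LocallyOfFinitePresentation ((AlgSp.yon S).map s) :=
    (AlgSp.repWith_yon_map_iff _ s).2 hslfp
  have hp₃ : AlgSp.RepWith @Surjective ((AlgSp.yon S).map s) := (AlgSp.repWith_yon_map_iff _ s).2 hsS
  have sqD := Groth.Agent.Helper15.isPullback_image_of_invariant ((AlgSp.yon S).map s) iW hinv
  have hcl := Groth.Agent.Helper15.repWith_isClosedImmersion_imageι_of_invariant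
    ((AlgSp.yon S).map s) hp₁ hp₂ hp₃ iW hiW hinv
  set φI := (AlgSp.yon S).map iW ≫ (AlgSp.yon S).map s with hφI
  -- the representing scheme
  have sqZ := hcl.rep.isPullback (𝟙 ((AlgSp.yon S).obj U))
  have hj : IsClosedImmersion (hcl.rep.snd (𝟙 ((AlgSp.yon S).obj U))).left :=
    hcl.property_snd (𝟙 ((AlgSp.yon S).obj U))
  set Z : Over S := hcl.rep.pullback (𝟙 ((AlgSp.yon S).obj U)) with hZ
  set j : Z ⟶ U := hcl.rep.snd (𝟙 ((AlgSp.yon S).obj U)) with hjdef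
  set fstZ := hcl.rep.fst (𝟙 ((AlgSp.yon S).obj U)) with hfstZ
  haveI : Mono j := by
    haveI : Mono j.left := by haveI := hj; infer_instance
    exact Over.mono_of_mono_left j
  have hchar : ∀ {V : Over S} (c : V ⟶ U), (∃ l : V ⟶ Z, l ≫ j = c) ↔
      ∃ z : (AlgSp.yon S).obj V ⟶ Sheaf.image φI, z ≫ Sheaf.imageι φI = (AlgSp.yon S).map c := by
    intro V c
    constructor
    · rintro ⟨l, rfl⟩
      refine ⟨(AlgSp.yon S).map l ≫ fstZ, ?_⟩
      rw [Category.assoc, sqZ.w, Category.comp_id, Functor.map_comp]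
    · rintro ⟨z, hz⟩
      obtain ⟨l, hl⟩ := (AlgSp.yon S).map_surjective
        (sqZ.lift z ((AlgSp.yon S).map c) (by rw [hz, Category.comp_id]))
      refine ⟨l, (AlgSp.yon S).map_injective ?_⟩
      rw [Functor.map_comp, hl]
      exact sqZ.lift_snd _ _ _
  refine ⟨Z, j, inferInstance, hj, ?_, ?_⟩
  · intro a
    obtain ⟨z, hz⟩ := (hchar (a.hom ≫ j)).1 ⟨a.hom, rfl⟩
    obtain ⟨R, hR, hRl⟩ := exists_sieve_lift_along s hsflat hslfp hsS (a.hom ≫ j)
    refine locIn_intro x₀ i₀ a.left _ (x.w_obj _) R hR ?_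
    intro V k hk
    obtain ⟨l, hl⟩ := hRl k hk
    obtain ⟨l', hl'⟩ := (AlgSp.yon S).map_surjective
      (sqD.lift ((AlgSp.yon S).map k ≫ z) ((AlgSp.yon S).map l) (by
        rw [Category.assoc, hz, ← Functor.map_comp, ← Functor.map_comp, hl]))
    have hl'' : l' ≫ iW = l := (AlgSp.yon S).map_injective (by
      rw [Functor.map_comp, hl']; exact sqD.lift_snd _ _ _)
    have e : (l' ≫ t') ≫ i₀ = l ≫ t := by
      rw [Category.assoc, ← hcond, ← Category.assoc, hl'']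
    let m₁ : (Over.mk ((l' ≫ t') ≫ i₀) : Over U₀) ⟶ Over.mk (l ≫ t) :=
      Over.homMk (𝟙 V) ((Category.id_comp _).trans e.symm)
    have hm₁0 : (overCat U₀).p.IsHomLift (𝟙 V) m₁ := IsHomLift.of_fac _ _ _ rfl rfl (by simp; rfl)
    have hm₁ : 𝒳.p.IsHomLift (𝟙 V) (x₀.map m₁) := inferInstance
    let m₂ : (Over.mk (l ≫ s) : Over U) ⟶ (overMap j).obj a := Over.homMk k hl.symm
    have hm₂0 : (overCat U).p.IsHomLift k m₂ := IsHomLift.of_fac _ _ _ rfl rfl (by simp; rfl)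
    have hm₂ : 𝒳.p.IsHomLift k (x.map m₂) := inferInstance
    have h1 := hθi l
    refine ⟨l' ≫ t', x₀.map m₁ ≫ (appIso θ (Over.mk l)).inv ≫ x.map m₂, ?_⟩
    have h3 : 𝒳.p.IsHomLift (𝟙 V ≫ 𝟙 V ≫ k)
        (x₀.map m₁ ≫ (appIso θ (Over.mk l)).inv ≫ x.map m₂) := inferInstance
    simpa using h3
  · intro a ha
    obtain ⟨R₁, hR₁, h₁⟩ := locIn_elim x₀ i₀ a.left _ (x.w_obj a) ha
    rw [hchar]
    haveI : Mono (Sheaf.imageι φI) := inferInstance
    refine Groth.Agent.Helper15.factors_of_locally_factors (Sheaf.imageι φI)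
      ((AlgSp.yon S).map a.hom) R₁ hR₁ ?_
    intro V k hk
    obtain ⟨d, φk, hφk⟩ := h₁ k hk
    obtain ⟨R₂, hR₂, h₂⟩ := exists_sieve_lift_along s hsflat hslfp hsS (k ≫ a.hom)
    rw [← Functor.map_comp]
    refine Groth.Agent.Helper15.factors_of_locally_factors (Sheaf.imageι φI)
      ((AlgSp.yon S).map (k ≫ a.hom)) R₂ hR₂ ?_
    intro V' k' hk'
    obtain ⟨l, hl⟩ := h₂ k' hk'
    let m₂ : (Over.mk (l ≫ s) : Over U) ⟶ a :=
      Over.homMk (k' ≫ k) ((Category.assoc _ _ _).trans hl.symm)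
    have hm₂0 : (overCat U).p.IsHomLift (k' ≫ k) m₂ := IsHomLift.of_fac _ _ _ rfl rfl (by simp; rfl)
    have hm₂ : 𝒳.p.IsHomLift (k' ≫ k) (x.map m₂) := inferInstance
    have h1 := hθi l
    have hfirst : 𝒳.p.IsHomLift (k' ≫ k) ((appIso θ (Over.mk l)).inv ≫ x.map m₂) := by
      have h3 : 𝒳.p.IsHomLift (𝟙 V' ≫ k' ≫ k) ((appIso θ (Over.mk l)).inv ≫ x.map m₂) :=
        inferInstance
      simpa using h3
    obtain ⟨χ, ⟨hχ, -⟩, -⟩ := existsUnique_fac h𝒳.isStack.1 k φk k' (k' ≫ k) rfl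
      ((appIso θ (Over.mk l)).inv ≫ x.map m₂)
    obtain ⟨l', hl'⟩ := hK l (Over.mk (d ≫ i₀) : Over U₀) k' χ hχ ⟨d, rfl⟩
    refine ⟨(AlgSp.yon S).map l' ≫ Sheaf.toImage φI, ?_⟩
    rw [Category.assoc, Sheaf.toImage_ι, hφI, ← Functor.map_comp, ← Functor.map_comp,
      ← Functor.map_comp, ← Category.assoc, hl', hl]

end Groth.Agent.Helper19.ClSub
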