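import Mathlib
import Groth.Agent.Lib.Helper19.ClSub.Desc
import Groth.Agent.Lib.Helper19.SmLocLib
import Groth.Agent.Lib.Helper19.GerbD.Homeo
import Groth.Agent.Lib.Helper15.SchReduced

/-!
# The reduced closed substack on a closed set of points (helper19)
-/

set_option autoImplicit false
set_option backward.isDefEq.respectTransparency false

universe u

open CategoryTheory CategoryTheory.Limits Functor AlgebraicGeometry Opposite TopologicalSpace

namespace Groth.Agent.Helper19.ClSub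

open FibCat AlgSt Stk Groth.Agent.Helper19.FibLib Groth.Agent.Helper19.StLib Groth.Agent.Helper19.StPts
  Groth.Agent.Helper19.EssImg Groth.Agent.Helper19.ImmLib Groth.Agent.Helper19.PshSt
  Groth.Agent.Helper19.OpenSub Groth.Agent.Helper19.LocQGen
  Groth.Agent.Helper19.ChartOver Groth.Agent.Helper19.ProdAlg

variable {S : Scheme.{u}} {𝒳 : AlgSt.Cat S} {U₀ Z₀ : Over S}

/-- the substack is stable under pullback. -/
theorem locIn_of_hom (h𝒳 : IsFibGrpd 𝒳.p) (x₀ : overCat U₀ ⥤ᵇ 𝒳) (i₀ : Z₀ ⟶ U₀) {y' y : 𝒳.obj}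
    (φ : y' ⟶ y) (hy : LocIn x₀ i₀ y) : LocIn x₀ i₀ y' := by
  obtain ⟨R, hR, h⟩ := hy
  refine ⟨R.pullback (𝒳.p.map φ), (AlgSp.J S).pullback_stable _ hR, ?_⟩
  intro V k hk
  obtain ⟨d, ψ, hψ⟩ := h _ hk
  obtain ⟨χ, ⟨hχ, -⟩, -⟩ := existsUnique_fac h𝒳 (𝒳.p.map φ) φ k (k ≫ 𝒳.p.map φ) rfl ψ
  exact ⟨d, χ, hχ⟩

/-- reducedness is local for the smooth topology. -/
theorem isReduced_smooth_local (U : Scheme.{u}) (R : Presieve U)
    (hR : R ∈ Scheme.precoverage @Smooth U) :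
    (IsReduced U ↔ ∀ ⦃V : Scheme.{u}⦄ (g : V ⟶ U), R g → IsReduced V) := by
  obtain ⟨hsurj, hsm⟩ := hR
  constructor
  · intro hU V g hg
    haveI : Smooth g := hsm hg
    exact Groth.Agent.Helper16.AS.isReduced_of_smooth g
  · intro h
    have : ∀ y : U, _root_.IsReduced (U.presheaf.stalk y) := by
      intro y
      obtain ⟨Y, g, ⟨hg⟩, ⟨x, hx⟩⟩ := hsurj y
      rename_i V φ
      haveI : Smooth φ := hsm hg
      haveI : IsReduced V := h φ hg
      have hx' : φ x = y := hx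
      subst hx'
      have hflat := Flat.stalkMap φ x
      algebraize [(φ.stalkMap x).hom]
      have : IsLocalHom (algebraMap (U.presheaf.stalk (φ x)) (V.presheaf.stalk x)) :=
        inferInstanceAs (IsLocalHom (φ.stalkMap x).hom)
      have : Module.FaithfullyFlat (U.presheaf.stalk (φ x)) (V.presheaf.stalk x) :=
        Module.FaithfullyFlat.of_flat_of_isLocalHom
      exact isReduced_of_injective (algebraMap (U.presheaf.stalk (φ x)) (V.presheaf.stalk x))
        (FaithfulSMul.algebraMap_injective _ _)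
    exact isReduced_of_isReduced_stalk U


/-- **S12867.**  A closed set of points of an algebraic stack carries a reduced closed substack. -/
theorem exists_reduced_closedSubstack (h𝒳 : IsAlgStack Scheme.fppfPrecoverage 𝒳) (T : Set (Points 𝒳))
    (hT : IsClosed T) :
    ∃ Q : 𝒳.obj → Prop, IsClosedSubstack 𝒳 Q Scheme.fppfPrecoverage ∧
      Set.range (Points.map (subIncl 𝒳 Q)) = T ∧
      SmoothLocally (fun X => IsReduced X) (fullSub 𝒳 Q) := by
  obtain ⟨U₀, x₀, hsm, hsurj⟩ := h𝒳.atlas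
  let T₀ : TopologicalSpace.Closeds U₀.left :=
    ⟨Points.ofChart x₀ ⁻¹' T, hT.preimage (continuous_ofChart h𝒳 x₀)⟩
  let I := Scheme.IdealSheafData.vanishingIdeal T₀
  let Z₀ : Over S := Over.mk (I.subschemeι ≫ U₀.hom)
  let i₀ : Z₀ ⟶ U₀ := Over.homMk I.subschemeι rfl
  have hi₀ : IsClosedImmersion i₀.left := (inferInstance : IsClosedImmersion I.subschemeι)
  have hred : IsReduced Z₀.left := Groth.Agent.Helper15.isReduced_vanishingIdeal_subscheme T₀
  have hrange : Set.range i₀.left = Points.ofChart x₀ ⁻¹' T := by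
    change Set.range I.subschemeι = _
    rw [Scheme.IdealSheafData.range_subschemeι, Scheme.IdealSheafData.coe_support_vanishingIdeal]
    rfl
  haveI : Mono i₀ := by
    haveI : Mono i₀.left := by haveI := hi₀; infer_instance
    exact Over.mono_of_mono_left i₀
  have hcl := isClosedUnderIsomorphisms_locIn x₀ i₀
  have himm : IsClosedImm (subIncl 𝒳 (LocIn x₀ i₀)) :=
    repByAlgSpWith_subIncl @IsClosedImmersion (LocIn x₀ i₀) hcl (fun U x =>
      exists_closed_chart h𝒳 x₀ hsm hsurj T i₀ hi₀ hred hrange U x)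
  have hfib : IsFibGrpd (fullSub 𝒳 (LocIn x₀ i₀)).p :=
    isFibGrpd_fullSub h𝒳.isStack.1 _ (fun φ h => locIn_of_hom h𝒳.isStack.1 x₀ i₀ φ h)
  have halg : IsAlgStack Scheme.fppfPrecoverage (fullSub 𝒳 (LocIn x₀ i₀)) :=
    Groth.Agent.S12768.result hfib h𝒳 (subIncl 𝒳 _)
      (Groth.Agent.Helper19.PshSt.RepByAlgSpWith.repByAlgSp1 himm)
  refine ⟨LocIn x₀ i₀, ⟨hcl, halg, himm⟩, ?_, ?_⟩
  · ext z
    constructor
    · rintro ⟨w, rfl⟩
      obtain ⟨p, rfl⟩ := Points.mk_surjective w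
      let q : FPt 𝒳 := p.map (subIncl 𝒳 (LocIn x₀ i₀))
      have hq : LocIn x₀ i₀ q.obj := p.obj.property
      obtain ⟨R, hR, hl⟩ := locIn_elim x₀ i₀ (pt q) q.obj q.lies hq
      obtain ⟨L, _, s, k, hk⟩ := Groth.Agent.Helper19.GerbD.exists_field_arrow_of_mem_J R hR
      obtain ⟨d, φ, hφ⟩ := hl k hk
      let r : FPt 𝒳 := { K := L, str := s, obj := x₀.obj (Over.mk (d ≫ i₀)), lies := x₀.w_obj _ }
      have h1 : Points.mk r = Points.mk q := Points.sound (rel_of_hom (p := r) (q := q) φ)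
      have h2 : ofSet T r.obj := by
        rw [ofSet_chart_iff h𝒳.isStack.1]
        intro v
        have : (d ≫ i₀).left v ∈ Set.range i₀.left := ⟨d.left v, by simp⟩
        rw [hrange] at this
        exact this
      show Points.mk q ∈ T
      rw [← h1]
      exact h2 r ⟨𝟙 _⟩
    · intro hz
      obtain ⟨w, rfl⟩ := isSurjective_of_repByAlgSpWith h𝒳.isStack.1 x₀ hsurj z
      obtain ⟨u₀, rfl⟩ := (chartPt U₀).surjective w
      rw [← ofChart_eq] at hz ⊢
      have hu₀ : u₀ ∈ Set.range i₀.left := by rw [hrange]; exact hz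
      obtain ⟨z₀, rfl⟩ := hu₀
      rw [← ofChart_overMap i₀ x₀ z₀]
      have hQ : LocIn x₀ i₀ ((BasedFunctor.comp (overMap i₀) x₀).obj (ptObj Z₀ z₀)) :=
        locIn_of_factors x₀ i₀ ((overMap i₀).obj (ptObj Z₀ z₀)) (ptObj Z₀ z₀).hom rfl
      let p : FPt (fullSub 𝒳 (LocIn x₀ i₀)) :=
        { K := Z₀.left.residueField z₀
          str := Z₀.left.fromSpecResidueField z₀ ≫ Z₀.hom
          obj := ⟨_, hQ⟩
          lies := (BasedFunctor.comp (overMap i₀) x₀).w_obj (ptObj Z₀ z₀) }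
      exact ⟨Points.mk p, rfl⟩
  · have hmem : ∀ a : (overCat Z₀).obj, LocIn x₀ i₀ (x₀.obj ((overMap i₀).obj a)) :=
      fun a => locIn_of_factors x₀ i₀ _ a.hom rfl
    have hfac : ∀ a : (overCat U₀).obj, LocIn x₀ i₀ (x₀.obj a) →
        ∃ l : a.left ⟶ Z₀, l ≫ i₀ = a.hom := by
      intro a ha
      obtain ⟨R, hR, hl⟩ := locIn_elim x₀ i₀ a.left _ (x₀.w_obj a) ha
      refine factors_of_locally i₀ a.hom R hR ?_
      intro V k hk
      obtain ⟨d, φ, hφ⟩ := hl k hk
      let m : (Over.mk (k ≫ a.hom) : Over U₀) ⟶ a := Over.homMk k rfl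
      have hm0 : (overCat U₀).p.IsHomLift k m := IsHomLift.of_fac _ _ _ rfl rfl (by simp; rfl)
      have hm : 𝒳.p.IsHomLift k (x₀.map m) := inferInstance
      obtain ⟨χ, ⟨hχ, -⟩, -⟩ := existsUnique_fac h𝒳.isStack.1 k φ (𝟙 V) k (by simp) (x₀.map m)
      exact factors_of_hom h𝒳 x₀ hsm T i₀ hi₀ hred hrange (Over.mk (k ≫ a.hom) : Over U₀)
        (Over.mk (d ≫ i₀) : Over U₀) (𝟙 V) χ hχ ⟨d, rfl⟩
    have he := isEquivOver_chartE x₀ (LocIn x₀ i₀) i₀ hcl hmem hfac
    have hz₁ : RepByAlgSpWith (AlgSp.LocP @Smooth)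
        (liftSub (BasedFunctor.comp (overMap i₀) x₀) (LocIn x₀ i₀) hmem) := by
      rw [← chartE_comp_fpSnd x₀ (LocIn x₀ i₀) i₀ hmem, repByAlgSpWith_equiv_comp _ he]
      exact repByAlgSpWith_fpSnd x₀ (subIncl 𝒳 _) hsm
    have hz₂ : RepByAlgSpWith AlgSp.IsSurjectiveMor
        (liftSub (BasedFunctor.comp (overMap i₀) x₀) (LocIn x₀ i₀) hmem) := by
      rw [← chartE_comp_fpSnd x₀ (LocIn x₀ i₀) i₀ hmem, repByAlgSpWith_equiv_comp _ he]
      exact repByAlgSpWith_fpSnd x₀ (subIncl 𝒳 _) hsurj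
    exact Groth.Agent.Helper19.SmLocLib.smoothLocally_of_chart (fun X => IsReduced X)
      isReduced_smooth_local _ hz₁ hz₂ hred

end Groth.Agent.Helper19.ClSub
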